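import Mathlib
/-!
The classes of a finite group `G` under conjugation by a subgroup.
-/

set_option autoImplicit false

namespace CfsgLib.ClassBound

variable {G : Type*} [Group G]

/-- The `H`-conjugates of `g`. -/
def cset (H : Subgroup G) (g : G) : Set G := {c | ∃ h ∈ H, c = h * g * h⁻¹}

theorem mem_cset_self (H : Subgroup G) (g : G) : g ∈ cset H g :=
  ⟨1, one_mem H, by simp⟩

theorem cset_conj {H : Subgroup G} {h : G} (hh : h ∈ H) (g : G) :
    cset H (h * g * h⁻¹) = cset H g := by
  ext c
  constructor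
  · rintro ⟨k, hk, rfl⟩
    exact ⟨k * h, mul_mem hk hh, by group⟩
  · rintro ⟨k, hk, rfl⟩
    exact ⟨k * h⁻¹, mul_mem hk (inv_mem hh), by group⟩

variable [Finite G]

theorem exists_fixing_pair_card (H : Subgroup G) (T : Set G)
    (hT : ∀ h ∈ H, ∀ g ∈ T, h * g * h⁻¹ ∈ T) :
    (cset H '' T).ncard * Nat.card H ≤
      Nat.card {p : H × T // ((p.1 : G)) * p.2 = (p.2 : G) * p.1} := by
  classical
  let act : MulAction H T :=
    { smul := fun h g => ⟨(h : G) * g * (h : G)⁻¹, hT h h.2 g g.2⟩
      one_smul := fun g => Subtype.ext (show (((1 : H) : G)) * g * (((1 : H) : G))⁻¹ = g by simp)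
      mul_smul := fun a b g => Subtype.ext
        (show ((a * b : H) : G) * g * ((a * b : H) : G)⁻¹ =
          (a : G) * ((b : G) * g * (b : G)⁻¹) * (a : G)⁻¹ by
          simp [mul_inv_rev, mul_assoc]) }
  let := act
  have hsmul : ∀ (h : H) (g : T), ((h • g : T) : G) = (h : G) * g * (h : G)⁻¹ := fun _ _ => rfl
  have hcard := Nat.card_congr (MulAction.sigmaFixedByEquivOrbitsProdGroup H T)
  rw [Nat.card_prod] at hcard
  have hfix : Nat.card (Σ h : H, MulAction.fixedBy T h) =
      Nat.card {p : H × T // ((p.1 : G)) * p.2 = (p.2 : G) * p.1} := by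
    refine Nat.card_congr
      { toFun := fun x => ⟨(x.1, x.2.1), by
          have := congrArg Subtype.val x.2.2
          simp only [hsmul] at this
          exact mul_inv_eq_iff_eq_mul.1 this⟩
        invFun := fun p => ⟨p.1.1, ⟨p.1.2, Subtype.ext (by
          simp only [hsmul]
          exact mul_inv_eq_iff_eq_mul.2 p.2)⟩⟩
        left_inv := fun x => rfl
        right_inv := fun p => rfl }
  rw [← hfix, hcard]
  refine Nat.mul_le_mul_right _ ?_
  let Q := MulAction.orbitRel.Quotient H T
  let F : Q → Set G := Quotient.lift (fun g : T => cset H (g : G)) (by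
    rintro a b ⟨h, rfl⟩
    show cset H ((h • b : T) : G) = cset H (b : G)
    rw [hsmul, cset_conj h.2])
  have hsub : cset H '' T ⊆ Set.range F := by
    rintro _ ⟨g, hg, rfl⟩
    exact ⟨Quotient.mk'' ⟨g, hg⟩, rfl⟩
  exact (Set.ncard_le_ncard hsub (Set.finite_range F)).trans (Finite.card_range_le F)

/-- On a set of elements lying in one coset that `H` normalises, `H` has at most `k(H)` classes. -/
theorem ncard_cset_le (H : Subgroup G) (T : Set G)
    (hT : ∀ h ∈ H, ∀ g ∈ T, h * g * h⁻¹ ∈ T) (hcoset : ∀ g ∈ T, ∀ g' ∈ T, g⁻¹ * g' ∈ H) :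
    (cset H '' T).ncard ≤ Nat.card (ConjClasses H) := by
  classical
  have h1 := exists_fixing_pair_card H T hT
  have h2 : Nat.card {p : H × T // ((p.1 : G)) * p.2 = (p.2 : G) * p.1} ≤
      Nat.card {p : H × H // Commute p.1 p.2} := by
    -- choose for each `h` one element of `T` commuting with it
    let pick : H → G := fun h =>
      if e : ∃ g ∈ T, (h : G) * g = g * h then e.choose else 1
    have hp : ∀ (h : H) (g : T), (h : G) * g = (g : G) * h →
        pick h ∈ T ∧ (h : G) * pick h = pick h * h := fun h g e => by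
      have hex : ∃ g ∈ T, (h : G) * g = g * h := ⟨g, g.2, e⟩
      simp only [pick, dif_pos hex]
      exact hex.choose_spec
    refine Nat.card_le_card_of_injective
      (fun p => ⟨(p.1.1, ⟨(pick p.1.1)⁻¹ * (p.1.2 : G),
        hcoset _ (hp _ _ p.2).1 _ p.1.2.2⟩), Subtype.ext ?_⟩) ?_
    · have e1 := (hp _ _ p.2).2
      have e2 := p.2
      show (p.1.1 : G) * ((pick p.1.1)⁻¹ * (p.1.2 : G)) =
        (pick p.1.1)⁻¹ * (p.1.2 : G) * (p.1.1 : G)
      have c1 : Commute (p.1.1 : G) (pick p.1.1) := e1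
      have c2 : Commute (p.1.1 : G) (p.1.2 : G) := e2
      exact (c1.inv_right.mul_right c2).eq
    · rintro ⟨⟨h, g⟩, e⟩ ⟨⟨h', g'⟩, e'⟩ hh
      have h12 := congrArg Subtype.val hh
      have h1' : h = h' := congrArg Prod.fst h12
      subst h1'
      have h3 : (pick h)⁻¹ * (g : G) = (pick h)⁻¹ * g' :=
        congrArg (fun z : H × H => (z.2 : G)) h12
      obtain rfl : g = g' := Subtype.ext (mul_left_cancel h3)
      rfl
  rw [card_comm_eq_card_conjClasses_mul_card] at h2
  exact Nat.le_of_mul_le_mul_right (h1.trans h2) Nat.card_pos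

theorem card_conjClasses_le_ncard_cset (M H : Subgroup G) (hHM : H ≤ M) :
    Nat.card (ConjClasses M) ≤ (cset H '' (M : Set G)).ncard := by
  classical
  rw [← Nat.card_coe_set_eq]
  refine Nat.card_le_card_of_injective
    (fun c : ConjClasses M => (⟨cset H ((Quotient.out c : M) : G),
      ⟨((Quotient.out c : M) : G), (Quotient.out c).2, rfl⟩⟩ : cset H '' (M : Set G))) ?_
  intro c d hcd
  replace hcd : cset H ((Quotient.out c : M) : G) = cset H ((Quotient.out d : M) : G) :=
    congrArg Subtype.val hcd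
  have hm := mem_cset_self H ((Quotient.out c : M) : G)
  rw [hcd] at hm
  obtain ⟨h, hh, e⟩ := hm
  rw [← Quotient.out_eq c, ← Quotient.out_eq d]
  refine Quotient.sound ?_
  refine IsConj.symm (isConj_iff.2 ⟨⟨h, hHM hh⟩, Subtype.ext ?_⟩)
  simpa using e.symm

end CfsgLib.ClassBound
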