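import Cfsg.Agent.ClassBound.CosetOrbits
/-!
A permutation group with `r` orbits on `n` points has at most `2 ^ (n - r)` classes.

Elements are described by following the cycle of a point: a state is the restriction of an element
to a set `B`, whose next image runs over one orbit of the pointwise stabiliser of `B' = g₀ B`.
-/

set_option autoImplicit false

namespace CfsgLib.ClassBound

open scoped Classical

variable {G α : Type*} [Group G] [MulAction G α] [Fintype α]

/-- The pointwise stabiliser of a finite set. -/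
abbrev fixA (G : Type*) [Group G] [MulAction G α] (A : Finset α) : Subgroup G :=
  fixingSubgroup G (A : Set α)

theorem mem_fixA {A : Finset α} {g : G} : g ∈ fixA G A ↔ ∀ p ∈ A, g • p = p := by
  simp [mem_fixingSubgroup_iff]

/-- The number of orbits of the pointwise stabiliser of `A` on the points outside `A`. -/
noncomputable def rOrb (G : Type*) [Group G] [MulAction G α] (A : Finset α) : ℕ :=
  (Aᶜ.image fun p => MulAction.orbit (fixA G A) p).card

theorem mem_orbit_fixA {A : Finset α} {p q : α} :
    q ∈ MulAction.orbit (fixA G A) p ↔ ∃ g ∈ fixA G A, g • p = q := by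
  constructor
  · rintro ⟨⟨g, hg⟩, rfl⟩
    exact ⟨g, hg, rfl⟩
  · rintro ⟨g, hg, rfl⟩
    exact ⟨⟨g, hg⟩, rfl⟩

theorem rOrb_smul (g : G) (A : Finset α) :
    rOrb G (A.image (g • ·)) = rOrb G A := by
  have hconj : ∀ h : G, h ∈ fixA G (A.image (g • ·)) ↔ g⁻¹ * h * g ∈ fixA G A := by
    intro h
    simp only [mem_fixA, Finset.mem_image, forall_exists_index, and_imp,
      forall_apply_eq_imp_iff₂, mul_smul, inv_smul_eq_iff]
  have horb : ∀ p : α, MulAction.orbit (fixA G (A.image (g • ·))) (g • p) =
      (g • ·) '' MulAction.orbit (fixA G A) p := by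
    intro p
    ext q
    rw [mem_orbit_fixA, Set.mem_image]
    constructor
    · rintro ⟨h, hh, rfl⟩
      exact ⟨(g⁻¹ * h * g) • p, mem_orbit_fixA.2 ⟨_, (hconj h).1 hh, rfl⟩, by simp [mul_smul]⟩
    · rintro ⟨x, hx, rfl⟩
      obtain ⟨k, hk, rfl⟩ := mem_orbit_fixA.1 hx
      refine ⟨g * k * g⁻¹, (hconj _).2 ?_, by simp [mul_smul]⟩
      convert hk using 1
      group
  have hcompl : (A.image (g • ·))ᶜ = Aᶜ.image (g • ·) := by
    ext q
    simp only [Finset.mem_compl, Finset.mem_image]
    constructor
    · intro h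
      exact ⟨g⁻¹ • q, fun hq => h ⟨_, hq, by simp⟩, by simp⟩
    · rintro ⟨p, hp, rfl⟩ ⟨p', hp', e⟩
      exact hp (MulAction.injective g e ▸ hp')
  have hfun : (Aᶜ.image fun p => MulAction.orbit (fixA G (A.image (g • ·))) (g • p)) =
      (Aᶜ.image fun p => MulAction.orbit (fixA G A) p).image ((g • ·) '' ·) := by
    simp only [Finset.image_image, Function.comp_def, horb]
  rw [rOrb, rOrb, hcompl, Finset.image_image]
  simp only [Function.comp_def]
  rw [hfun, Finset.card_image_of_injective _ (Set.image_injective.2 (MulAction.injective g))]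

theorem rOrb_univ : rOrb G (Finset.univ : Finset α) = 0 := by simp [rOrb]

theorem one_le_rOrb {A : Finset α} {a : α} (ha : a ∉ A) : 1 ≤ rOrb G A :=
  Finset.card_pos.2 ⟨_, Finset.mem_image_of_mem _ (Finset.mem_compl.2 ha)⟩

/-- The orbit count: refining the stabiliser from `B'` to `B' ∪ {a}` splits one orbit into `q`. -/
theorem orbit_split {B' : Finset α} {a y₀ : α} (ha : a ∉ B') (hy₀ : y₀ ∉ B') {Y : Finset α}
    (hY : ∀ y, y ∈ Y ↔ y ∈ MulAction.orbit (fixA G B') y₀) :
    (Y.image fun p => MulAction.orbit (fixA G (insert a B')) p).card + rOrb G B' ≤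
      rOrb G (insert a B') + 2 := by
  set P : α → Set α := fun p => MulAction.orbit (fixA G (insert a B')) p with hP
  set P' : α → Set α := fun p => MulAction.orbit (fixA G B') p with hP'
  have hle : fixA G (insert a B') ≤ fixA G B' := fun g hg =>
    mem_fixA.2 fun p hp => mem_fixA.1 hg p (Finset.mem_insert_of_mem hp)
  have hPP' : ∀ p q, P p = P q → P' p = P' q := by
    intro p q h
    have : p ∈ P q := h ▸ MulAction.mem_orbit_self p
    obtain ⟨g, hg, e⟩ := mem_orbit_fixA.1 this
    exact MulAction.orbit_eq_iff.2 (mem_orbit_fixA.2 ⟨g, hle hg, e⟩)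
  have hYsub : Y ⊆ B'ᶜ := by
    intro y hy
    obtain ⟨g, hg, rfl⟩ := mem_orbit_fixA.1 ((hY y).1 hy)
    rw [Finset.mem_compl]
    intro h
    exact hy₀ ((MulAction.injective g (mem_fixA.1 hg _ h)) ▸ h)
  set R := B'ᶜ \ Y with hR
  -- the fine orbits
  have h1 : (Y.image P).card + (R.image P).card ≤ rOrb G (insert a B') + 1 := by
    have hdisj : Disjoint (Y.image P) (R.image P) := by
      rw [Finset.disjoint_left]
      intro S hS hS'
      obtain ⟨y, hy, rfl⟩ := Finset.mem_image.1 hS
      obtain ⟨z, hz, e⟩ := Finset.mem_image.1 hS'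
      refine (Finset.mem_sdiff.1 hz).2 ((hY z).2 ?_)
      have e' : P' z = P' y := hPP' _ _ e
      have hy' : P' y = P' y₀ := MulAction.orbit_eq_iff.2 ((hY y).1 hy)
      exact MulAction.orbit_eq_iff.1 (e'.trans hy')
    rw [← Finset.card_union_of_disjoint hdisj, ← Finset.image_union, hR,
      Finset.union_sdiff_of_subset hYsub]
    have hins : B'ᶜ = insert a (insert a B')ᶜ := by
      ext x
      simp only [Finset.mem_compl, Finset.mem_insert]
      by_cases hx : x = a <;> simp [hx, ha]
    rw [hins, Finset.image_insert]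
    exact (Finset.card_insert_le _ _).trans le_rfl
  -- the coarse orbits
  have h2 : rOrb G B' ≤ (R.image P).card + 1 := by
    have hsub : B'ᶜ.image P' ⊆ insert (P' y₀) (R.image P') := by
      intro S hS
      obtain ⟨x, hx, rfl⟩ := Finset.mem_image.1 hS
      by_cases hxY : x ∈ Y
      · exact Finset.mem_insert.2 (Or.inl (MulAction.orbit_eq_iff.2 ((hY x).1 hxY)))
      · exact Finset.mem_insert_of_mem
          (Finset.mem_image_of_mem _ (Finset.mem_sdiff.2 ⟨hx, hxY⟩))
    have hcoarse : (R.image P').card ≤ (R.image P).card := by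
      let F : Set α → Set α := fun S => ⋃ p ∈ S, P' p
      have hF : ∀ x, F (P x) = P' x := by
        intro x
        ext z
        simp only [F, Set.mem_iUnion, exists_prop]
        constructor
        · rintro ⟨p, hp, hz⟩
          rwa [← hPP' p x (MulAction.orbit_eq_iff.2 hp)]
        · exact fun hz => ⟨x, MulAction.mem_orbit_self x, hz⟩
      have : R.image P' = (R.image P).image F := by
        rw [Finset.image_image]
        exact Finset.image_congr fun x _ => (hF x).symm
      rw [this]
      exact Finset.card_image_le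
    exact (Finset.card_le_card hsub).trans ((Finset.card_insert_le _ _).trans (by omega))
  omega

theorem mul_two_pow_le {q x y : ℕ} (h : q + x ≤ y + 2) : q * 2 ^ x ≤ 2 ^ (y + 1) := by
  rcases q with _ | q
  · simp
  calc (q + 1) * 2 ^ x ≤ 2 ^ q * 2 ^ x := Nat.mul_le_mul_right _ Nat.lt_two_pow_self
    _ = 2 ^ (q + x) := (pow_add 2 q x).symm
    _ ≤ 2 ^ (y + 1) := Nat.pow_le_pow_right two_pos (by omega)

/-- The elements that agree with `g₀` on `B`. -/
def agree (B : Finset α) (g₀ : G) : Set G := {g | ∀ p ∈ B, g • p = g₀ • p}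

variable [Finite G] [FaithfulSMul G α]

/-- The bound on the classes in one state of the cycle of a point. -/
def StateBound (G : Type*) [Group G] [MulAction G α] (B : Finset α) : Prop :=
  ∀ (B' : Finset α) (a b : α) (g₀ : G), b ∉ B → a ∉ B' → insert b B = insert a B' →
    B.image (g₀ • ·) = B' →
    (cset (fixA G (insert a B')) '' agree B g₀).ncard * 2 ^ rOrb G B ≤
      2 ^ (Fintype.card α - B.card)

theorem classBound_of_state (A : Finset α) (hA : StateBound G A) :
    Nat.card (ConjClasses (fixA G A)) * 2 ^ rOrb G A ≤ 2 ^ (Fintype.card α - A.card) := by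
  by_cases hu : A = Finset.univ
  · subst hu
    have h1 : ∀ g : fixA G (Finset.univ : Finset α), g = 1 := fun g =>
      Subtype.ext (eq_of_smul_eq_smul fun p : α => by
        rw [mem_fixA.1 g.2 p (Finset.mem_univ p), Subgroup.coe_one, one_smul])
    have : Subsingleton (fixA G (Finset.univ : Finset α)) := ⟨fun g h => by rw [h1 g, h1 h]⟩
    have : Subsingleton (ConjClasses (fixA G (Finset.univ : Finset α))) :=
      ⟨fun c d => by
        induction c using Quotient.inductionOn
        induction d using Quotient.inductionOn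
        exact congrArg _ (Subsingleton.elim _ _)⟩
    simp [rOrb_univ, Finite.card_le_one_iff_subsingleton, this]
  obtain ⟨a, ha⟩ : ∃ a, a ∉ A := by
    simpa [Finset.eq_univ_iff_forall] using hu
  have h := hA A a a 1 ha ha rfl (by simp)
  have hset : agree A (1 : G) = (fixA G A : Set G) := by
    ext g
    simp [agree, mem_fixA]
  rw [hset] at h
  refine le_trans (Nat.mul_le_mul_right _ ?_) h
  exact card_conjClasses_le_ncard_cset _ _ fun g hg =>
    mem_fixA.2 fun p hp => mem_fixA.1 hg p (Finset.mem_insert_of_mem hp)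

theorem stateBound (B : Finset α) : StateBound G B := by
  suffices H : ∀ m, ∀ B : Finset α, Fintype.card α - B.card = m → StateBound G B from
    H _ B rfl
  intro m
  induction m using Nat.strong_induction_on with
  | _ m ih =>
    intro B hm B' a b g₀ hb ha hC hg₀
    set C := insert a B' with hCdef
    set H := fixA G C with hH
    set T := agree B g₀ with hT
    have hBC : C.card = B.card + 1 := by rw [← hC, Finset.card_insert_of_notMem hb]
    have hCle : C.card ≤ Fintype.card α := Finset.card_le_univ C
    have hIH : StateBound G C := ih _ (by omega) C rfl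
    have hbC : b ∈ C := hC ▸ Finset.mem_insert_self b B
    have hBsub : ∀ p ∈ B, p ∈ C := fun p hp => hC ▸ Finset.mem_insert_of_mem hp
    have hB'sub : ∀ p ∈ B', p ∈ C := fun p hp => Finset.mem_insert_of_mem hp
    have hgB : ∀ g ∈ T, ∀ p ∈ B, g • p ∈ B' := fun g hg p hp =>
      hg₀ ▸ Finset.mem_image.2 ⟨p, hp, (hg p hp).symm⟩
    have hTconj : ∀ h ∈ H, ∀ g ∈ T, h * g * h⁻¹ ∈ T := by
      intro h hh g hg p hp
      rw [mul_smul, mul_smul, inv_smul_eq_iff.2 (mem_fixA.1 hh p (hBsub p hp)).symm,
        mem_fixA.1 hh _ (hB'sub _ (hgB g hg p hp))]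
      exact hg p hp
    -- the possible images of `b`
    set y₀ := g₀ • b with hy₀def
    have hy₀ : y₀ ∉ B' := by
      rw [← hg₀, Finset.mem_image]
      rintro ⟨p, hp, e⟩
      exact hb (MulAction.injective g₀ e ▸ hp)
    set Y := Finset.univ.filter fun y => y ∈ MulAction.orbit (fixA G B') y₀ with hYdef
    have hY : ∀ y, y ∈ Y ↔ y ∈ MulAction.orbit (fixA G B') y₀ := by simp [hYdef]
    have hgY : ∀ g ∈ T, g • b ∈ Y := by
      intro g hg
      refine (hY _).2 (mem_orbit_fixA.2 ⟨g * g₀⁻¹, mem_fixA.2 ?_, by simp [hy₀def, mul_smul]⟩)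
      rw [← hg₀]
      simp only [Finset.mem_image, forall_exists_index, and_imp, forall_apply_eq_imp_iff₂]
      intro p hp
      rw [mul_smul, inv_smul_smul]
      exact hg p hp
    set cls := Y.image fun p => MulAction.orbit H p with hcls
    have hsel : ∀ S ∈ cls, ∃ y ∈ Y, MulAction.orbit H y = S := fun S hS =>
      Finset.mem_image.1 hS
    choose rep hrepY hrep using hsel
    let Ty : α → Set G := fun y => {g | g ∈ T ∧ g • b = y}
    -- one representative for each orbit of images
    have hcover : cset H '' T ⊆ ⋃ S : cls, cset H '' Ty (rep S.1 S.2) := by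
      rintro _ ⟨g, hg, rfl⟩
      have hS : MulAction.orbit H (g • b) ∈ cls :=
        Finset.mem_image_of_mem _ (hgY g hg)
      obtain ⟨h, hh, e⟩ := mem_orbit_fixA.1
        (MulAction.orbit_eq_iff.1 (hrep _ hS))
      refine Set.mem_iUnion.2 ⟨⟨_, hS⟩, h * g * h⁻¹, ⟨hTconj h hh g hg, ?_⟩, cset_conj hh g⟩
      rw [mul_smul, mul_smul, inv_smul_eq_iff.2 (mem_fixA.1 hh b hbC).symm]
      exact e
    -- the bound for each of them
    have heach : ∀ y : α, y ∈ Y → (cset H '' Ty y).ncard * 2 ^ rOrb G C ≤
        2 ^ (Fintype.card α - C.card) := by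
      intro y hy
      by_cases hne : (Ty y).Nonempty
      swap
      · simp [Set.not_nonempty_iff_eq_empty.1 hne]
      obtain ⟨g₁, hg₁, hg₁b⟩ := hne
      have hTy : Ty y = agree C g₁ := by
        ext g
        constructor
        · rintro ⟨hg, hgb⟩ p hp
          rw [← hC] at hp
          rcases Finset.mem_insert.1 hp with rfl | hp
          · rw [hgb, hg₁b]
          · rw [hg p hp, hg₁ p hp]
        · intro hg
          exact ⟨fun p hp => (hg p (hBsub p hp)).trans (hg₁ p hp), (hg b hbC).trans hg₁b⟩
      have himg : C.image (g₁ • ·) = insert y B' := by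
        rw [← hC, Finset.image_insert, hg₁b, ← hg₀]
        congr 1
        exact Finset.image_congr fun p hp => hg₁ p hp
      by_cases hya : y = a
      · subst hya
        -- the cycle closes
        refine le_trans (Nat.mul_le_mul_right _ ?_) (classBound_of_state C hIH)
        refine ncard_cset_le H _ (fun h hh g hg => ⟨hTconj h hh g hg.1, ?_⟩) ?_
        · rw [mul_smul, mul_smul, inv_smul_eq_iff.2 (mem_fixA.1 hh b hbC).symm, hg.2]
          exact mem_fixA.1 hh y (Finset.mem_insert_self y B')
        · intro g hg g' hg'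
          rw [hTy] at hg hg'
          refine mem_fixA.2 fun p hp => ?_
          rw [mul_smul, inv_smul_eq_iff, hg p hp, hg' p hp]
      · have hyB : y ∉ B' := by
          obtain ⟨g, hg, e⟩ := mem_orbit_fixA.1 ((hY y).1 hy)
          intro h
          rw [← e] at h
          exact hy₀ ((MulAction.injective g (mem_fixA.1 hg _ h)) ▸ h)
        have hyC : y ∉ C := by simp [hCdef, hya, hyB]
        have hins : insert y C = insert a (insert y B') := Finset.insert_comm y a B'
        have h := hIH (insert y B') a y g₁ hyC (by simp [ha, Ne.symm hya]) hins himg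
        refine le_trans (Nat.mul_le_mul_right _ ?_) h
        rw [hTy]
        set H' := fixA G (insert a (insert y B')) with hH'
        have hle : H' ≤ H := fun g hg => mem_fixA.2 fun p hp =>
          mem_fixA.1 hg p (hins ▸ Finset.mem_insert_of_mem hp)
        have : cset H '' agree C g₁ =
            (fun S : Set G => {c | ∃ d ∈ S, c ∈ cset H d}) '' (cset H' '' agree C g₁) := by
          rw [Set.image_image]
          refine Set.image_congr fun g _ => ?_
          ext c
          constructor
          · exact fun hc => ⟨g, mem_cset_self H' g, hc⟩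
          · rintro ⟨d, ⟨k, hk, rfl⟩, hc⟩
            rwa [cset_conj (hle hk)] at hc
        rw [this]
        exact Set.ncard_image_le (Set.toFinite _)
    -- add up
    have hN : (cset H '' T).ncard * 2 ^ rOrb G C ≤ cls.card * 2 ^ (Fintype.card α - C.card) := by
      refine le_trans (Nat.mul_le_mul_right _ ((Set.ncard_le_ncard hcover (Set.toFinite _)).trans
        (Set.ncard_iUnion_le_of_fintype _))) ?_
      rw [Finset.sum_mul]
      refine (Finset.sum_le_card_nsmul _ _ _ fun S _ => heach _ (hrepY S.1 S.2)).trans ?_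
      simp
    have hq : cls.card * 2 ^ rOrb G B ≤ 2 ^ (rOrb G C + 1) := by
      refine mul_two_pow_le ?_
      rw [← rOrb_smul g₀ B, hg₀]
      exact orbit_split ha hy₀ hY
    refine Nat.le_of_mul_le_mul_right (c := 2 ^ rOrb G C) ?_ (Nat.two_pow_pos _)
    calc (cset H '' T).ncard * 2 ^ rOrb G B * 2 ^ rOrb G C
        = (cset H '' T).ncard * 2 ^ rOrb G C * 2 ^ rOrb G B := by ring
      _ ≤ cls.card * 2 ^ (Fintype.card α - C.card) * 2 ^ rOrb G B := Nat.mul_le_mul_right _ hN
      _ = cls.card * 2 ^ rOrb G B * 2 ^ (Fintype.card α - C.card) := by ring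
      _ ≤ 2 ^ (rOrb G C + 1) * 2 ^ (Fintype.card α - C.card) := Nat.mul_le_mul_right _ hq
      _ = 2 ^ (Fintype.card α - B.card) * 2 ^ rOrb G C := by
        rw [show Fintype.card α - B.card = Fintype.card α - C.card + 1 by omega]
        ring

/-- The number of classes of a pointwise stabiliser. -/
theorem card_conjClasses_fixA_mul_le (A : Finset α) :
    Nat.card (ConjClasses (fixA G A)) * 2 ^ rOrb G A ≤ 2 ^ (Fintype.card α - A.card) :=
  classBound_of_state A (stateBound A)

/-- A permutation group of degree `n` has at most `2 ^ (n - 1)` classes. -/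
theorem card_conjClasses_le_two_pow :
    Nat.card (ConjClasses G) ≤ 2 ^ (Fintype.card α - 1) := by
  have htop : fixA G (∅ : Finset α) = ⊤ := by simp [fixA]
  have h := card_conjClasses_fixA_mul_le (G := G) (∅ : Finset α)
  have e : Nat.card (ConjClasses (fixA G (∅ : Finset α))) = Nat.card (ConjClasses G) := by
    rw [htop]
    exact Nat.card_congr (Equiv.ofBijective (ConjClasses.map (Subgroup.topEquiv (G := G)).toMonoidHom)
      ⟨fun c d hcd => by
        induction c using Quotient.inductionOn with | h x => ?_
        induction d using Quotient.inductionOn with | h y => ?_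
        obtain ⟨g, hg⟩ := isConj_iff.1 (ConjClasses.mk_eq_mk_iff_isConj.1 hcd)
        exact Quotient.sound (isConj_iff.2 ⟨⟨g, Subgroup.mem_top g⟩, Subtype.ext hg⟩),
      ConjClasses.map_surjective Subgroup.topEquiv.surjective⟩)
  rw [e, Finset.card_empty, Nat.sub_zero] at h
  rcases Nat.eq_zero_or_pos (Fintype.card α) with h0 | h0
  · rw [h0] at h ⊢
    exact le_trans (Nat.le_mul_of_pos_right _ (Nat.two_pow_pos _)) h
  obtain ⟨a⟩ := Fintype.card_pos_iff.1 h0
  have h1 : Nat.card (ConjClasses G) * 2 ≤ 2 ^ (Fintype.card α) := by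
    refine le_trans (Nat.mul_le_mul_left _ ?_) h
    calc 2 = 2 ^ 1 := (pow_one 2).symm
      _ ≤ _ := Nat.pow_le_pow_right two_pos (one_le_rOrb (Finset.notMem_empty a))
  rw [show Fintype.card α = Fintype.card α - 1 + 1 by omega, pow_succ] at h1
  omega

end CfsgLib.ClassBound
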